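import Cfsg.Agent.H93.PReg.Torus
import Mathlib.GroupTheory.Sylow

/-!
# S4791 + S4927, own characteristic: elements of the split torus (helper697)

* `TorSet p S` : the elements of order prime to `p` which normalise a Sylow `p`-subgroup (for groups of Lie type in
  characteristic `p`: the elements which are conjugate to an element of the split torus);
* `Tor p S R` : `R` elements of `TorSet p S` which are pairwise not conjugate under `Aut(S)`;
* `RowT p S` : `Tor p S R` for some `R` with `4 (p - 1) < R ^ 2`;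
* `Tor.of_ctl` : counting with the characteristic polynomials (`Ctl` of `H93.PReg`).
-/

set_option autoImplicit false

open Polynomial Matrix

namespace Cfsg.Agent.H697.OC

open Cfsg.Agent.H93.PReg

universe u v

/-- the elements of order prime to `p` which normalise a Sylow `p`-subgroup -/
def TorSet (p : ℕ) (S : Type u) [Group S] : Set S :=
  {x | ¬ p ∣ orderOf x ∧ ∃ P : Sylow p S, x ∈ Subgroup.normalizer ((P : Subgroup S) : Set S)}

/-- `R` elements of `TorSet p S` which are pairwise not conjugate under `Aut(S)` -/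
def Tor (p : ℕ) (S : Type u) [Group S] (R : ℕ) : Prop :=
  ∃ t : Fin R → S, (∀ i, t i ∈ TorSet p S) ∧ ∀ i j, (∃ α : MulAut S, α (t i) = t j) → i = j

/-- enough elements of the split torus -/
def RowT (p : ℕ) (S : Type u) [Group S] : Prop := ∃ R, 4 * (p - 1) < R ^ 2 ∧ Tor p S R

section

variable {S : Type u} [Group S] {p m n : ℕ}

theorem Tor.mono (h : Tor p S n) (hmn : m ≤ n) : Tor p S m := by
  obtain ⟨t, ht1, ht2⟩ := h
  exact ⟨fun i => t (Fin.castLE hmn i), fun i => ht1 _, fun i j hij => Fin.castLE_injective hmn (ht2 _ _ hij)⟩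

/-- a torus element of a group mapping onto `S` -/
theorem TorSet.of_hom {H : Type v} [Group H] [Finite H] [Fact p.Prime] (π : H →* S) (hπ : Function.Surjective π) {x : H}
    (hx : x ∈ TorSet p H) : π x ∈ TorSet p S := by
  obtain ⟨h1, P, hP⟩ := hx
  refine ⟨fun h => h1 (h.trans (orderOf_map_dvd π x)), ⟨P.mapSurjective hπ, ?_⟩⟩
  have h2 : (P.mapSurjective hπ : Subgroup S) = P.1.map π := rfl
  rw [h2]
  rw [Subgroup.mem_normalizer_iff] at hP ⊢
  have key : ∀ x : H, (∀ z, z ∈ P.1 ↔ x * z * x⁻¹ ∈ P.1) → ∀ y, y ∈ P.1.map π → π x * y * (π x)⁻¹ ∈ P.1.map π := by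
    rintro x hx y ⟨z, hz, rfl⟩
    exact ⟨x * z * x⁻¹, (hx z).1 hz, by simp⟩
  intro y
  constructor
  · intro hy
    exact key x hP y hy
  · intro hy
    have h3 := key x⁻¹ (fun z => by
      have h4 := hP (x⁻¹ * z * x⁻¹⁻¹)
      rw [show x * (x⁻¹ * z * x⁻¹⁻¹) * x⁻¹ = z by group] at h4
      exact h4.symm) _ hy
    rw [map_inv] at h3
    have h4 : (π x)⁻¹ * (π x * y * (π x)⁻¹) * (π x)⁻¹⁻¹ = y := by group
    rwa [h4] at h3

section equiv

variable [Finite S] [Fact p.Prime]

theorem TorSet.map {T : Type v} [Group T] (e : S ≃* T) {x : S} (hx : x ∈ TorSet p S) : e x ∈ TorSet p T :=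
  TorSet.of_hom e.toMonoidHom e.surjective hx

theorem TorSet.congr {T : Type v} [Group T] (e : S ≃* T) {x : S} : e x ∈ TorSet p T ↔ x ∈ TorSet p S :=
  ⟨fun h => by
    have : Finite T := Finite.of_equiv _ e.toEquiv
    have h1 := TorSet.map e.symm h
    rwa [MulEquiv.symm_apply_apply] at h1, TorSet.map e⟩

theorem Tor.congr {T : Type v} [Group T] (e : S ≃* T) (h : Tor p S n) : Tor p T n := by
  obtain ⟨t, ht1, ht2⟩ := h
  refine ⟨fun i => e (t i), fun i => TorSet.map e (ht1 i),
    fun i j ⟨a, ha⟩ => ht2 i j ⟨(e.trans a).trans e.symm, ?_⟩⟩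
  change e.symm (a (e (t i))) = t j
  rw [ha, e.symm_apply_apply]

theorem RowT.congr {T : Type v} [Group T] (e : S ≃* T) (h : RowT p S) : RowT p T := by
  obtain ⟨R, h1, h2⟩ := h
  exact ⟨R, h1, h2.congr e⟩

end equiv

/-- from a set meeting many orbits -/
theorem Tor.of_image (X : Finset S) (hX : ∀ x ∈ X, x ∈ TorSet p S) [DecidableEq (Quotient (autSetoid S))]
    (h : n ≤ (X.image (Quotient.mk (autSetoid S))).card) : Tor p S n := by
  classical
  obtain ⟨Y, hYX, hY⟩ := Finset.exists_subset_card_eq h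
  have h1 : ∀ y ∈ Y, ∃ x ∈ X, Quotient.mk (autSetoid S) x = y := by
    intro y hy
    simpa using Finset.mem_image.1 (hYX hy)
  choose! x hx1 hx2 using h1
  let e := Y.equivFinOfCardEq hY
  refine ⟨fun i => x (e.symm i).1, fun i => hX _ (hx1 _ (e.symm i).2), fun i j hij => ?_⟩
  apply e.symm.injective
  apply Subtype.ext
  rw [← hx2 _ (e.symm i).2, ← hx2 _ (e.symm j).2]
  exact Quotient.sound hij

/-- **counting**: every orbit of `Aut S` meets `X` in at most `c` elements -/
theorem Tor.of_count (X : Finset S) (hX : ∀ x ∈ X, x ∈ TorSet p S) (c : ℕ)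
    (hc : ∀ x ∈ X, ∀ Y ⊆ X, (∀ y ∈ Y, ∃ a : MulAut S, a x = y) → Y.card ≤ c)
    (h : (n - 1) * c < X.card) : Tor p S n := by
  classical
  refine Tor.of_image X hX ?_
  by_contra hlt
  push Not at hlt
  have h1 : X.card ≤ c * (X.image (Quotient.mk (autSetoid S))).card := by
    apply Finset.card_le_mul_card_image
    intro b hb
    obtain ⟨x, hx, rfl⟩ := Finset.mem_image.1 hb
    refine hc x hx _ (Finset.filter_subset _ _) fun y hy => ?_
    obtain ⟨-, hy2⟩ := Finset.mem_filter.1 hy
    exact Quotient.exact hy2.symm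
  have h2 : c * (X.image (Quotient.mk (autSetoid S))).card ≤ c * (n - 1) := Nat.mul_le_mul le_rfl (by omega)
  rw [mul_comm (n - 1)] at h
  omega

/-- values of a function constant on the orbits -/
theorem Tor.of_values {ι : Type*} (inv : S → ι) (hinv : ∀ (a : MulAut S) x, inv (a x) = inv x) (f : Fin n → S)
    (hf : ∀ i, f i ∈ TorSet p S) (h : Function.Injective fun i => inv (f i)) : Tor p S n :=
  ⟨f, hf, fun i j ⟨a, ha⟩ => h (by simp only [← ha, hinv])⟩

end

section ctl

variable {S : Type u} [Group S] {p n : ℕ} {F : Type*} [Field F] {ι : Type*} [Fintype ι] [DecidableEq ι]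
  {H : Type v} [Group H] {ρ : H →* Matrix ι ι F} {π : H →* S} {W : Type*} [Finite W]

/-- **counting with characteristic polynomials**: `f k`, `k ∈ X`, have different characteristic polynomials and their
images are in the torus; each orbit of `Aut S` contains at most `|W|` of them. -/
theorem Tor.of_ctl (hC : Ctl ρ π W) {κ : Type*} (X : Finset κ) (f : κ → H) (hX : ∀ k ∈ X, π (f k) ∈ TorSet p S)
    (hinj : ∀ k ∈ X, ∀ l ∈ X, (ρ (f k)).charpoly = (ρ (f l)).charpoly → k = l) (h : (n - 1) * Nat.card W < X.card) :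
    Tor p S n := by
  classical
  obtain ⟨P, -, hP⟩ := hC
  have := Fintype.ofFinite W
  refine Tor.of_image (X.image fun k => π (f k)) (by
    intro x hx
    obtain ⟨k, hk, rfl⟩ := Finset.mem_image.1 hx
    exact hX k hk) ?_
  rw [Finset.image_image]
  by_contra hlt
  push Not at hlt
  have h1 : X.card ≤ Nat.card W * (X.image (Quotient.mk (autSetoid S) ∘ fun k => π (f k))).card := by
    apply Finset.card_le_mul_card_image
    intro b hb
    obtain ⟨k, hk, rfl⟩ := Finset.mem_image.1 hb
    rw [Nat.card_eq_fintype_card, ← Finset.card_univ]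
    have h2 : ∀ l ∈ X.filter (fun l => (Quotient.mk (autSetoid S) ∘ fun k => π (f k)) l =
        (Quotient.mk (autSetoid S) ∘ fun k => π (f k)) k), ∃ w : W, (ρ (f l)).charpoly = P w (f k) := by
      intro l hl
      obtain ⟨-, hl2⟩ := Finset.mem_filter.1 hl
      obtain ⟨a, ha⟩ : ∃ a : MulAut S, a (π (f k)) = π (f l) := Quotient.exact hl2.symm
      exact hP a _ _ ha
    have : Nonempty W := ⟨(h2 k (Finset.mem_filter.2 ⟨hk, rfl⟩)).choose⟩
    choose! w hw using h2
    refine Finset.card_le_card_of_injOn w (fun l _ => Finset.mem_univ _) ?_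
    intro l hl l' hl' hll
    refine hinj l (Finset.mem_filter.1 hl).1 l' (Finset.mem_filter.1 hl').1 ?_
    rw [hw l hl, hw l' hl', hll]
  have h2 : Nat.card W * (X.image (Quotient.mk (autSetoid S) ∘ fun k => π (f k))).card ≤ Nat.card W * (n - 1) :=
    Nat.mul_le_mul le_rfl (by omega)
  rw [mul_comm (n - 1)] at h
  omega

end ctl

end Cfsg.Agent.H697.OC
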